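import Mathlib
import Groth.Prelude.Def_KZero

/-!
# Nilpotent dévissage, part 1: the radical filtration of an epi-reflective right exact endofunctor

`T : A ⥤ A` with a natural transformation `η : 𝟭 A ⟶ T`; `r M = ker (η_M)`.
-/

set_option autoImplicit false
set_option linter.style.haveILetI false
universe v u
open CategoryTheory Limits

namespace Groth.Agent.H30.NilDev

variable {A : Type u} [Category.{v} A] [Abelian A] (T : A ⥤ A) (η : 𝟭 A ⟶ T)

/-- the unit, with the identity functor unfolded in its type -/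
def ηa (M : A) : M ⟶ T.obj M := η.app M

omit [Abelian A] in
@[reassoc]
lemma ηa_naturality {M N : A} (f : M ⟶ N) : f ≫ ηa T η N = ηa T η M ≫ T.map f :=
  η.naturality f

/-- the "radical" `r M = ker (M ⟶ T M)` -/
noncomputable abbrev r (M : A) : A := kernel (ηa T η M)

/-- the inclusion `r M ⟶ M` -/
noncomputable def rι (M : A) : r T η M ⟶ M := kernel.ι (ηa T η M)

instance (M : A) : Mono (rι T η M) := by unfold rι; infer_instance

@[reassoc]
lemma rι_η (M : A) : rι T η M ≫ ηa T η M = 0 := kernel.condition _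

/-- functoriality of the radical -/
noncomputable def rmap {M N : A} (f : M ⟶ N) : r T η M ⟶ r T η N :=
  kernel.map (ηa T η M) (ηa T η N) f (T.map f) (ηa_naturality T η f).symm

@[reassoc]
lemma rmap_ι {M N : A} (f : M ⟶ N) : rmap T η f ≫ rι T η N = rι T η M ≫ f := by
  unfold rmap rι
  simp

/-- lifting to the radical -/
noncomputable def rlift {W M : A} (x : W ⟶ M) (hx : x ≫ ηa T η M = 0) : W ⟶ r T η M :=
  kernel.lift (ηa T η M) x hx

@[reassoc]
lemma rlift_ι {W M : A} (x : W ⟶ M) (hx : x ≫ ηa T η M = 0) :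
    rlift T η x hx ≫ rι T η M = x := by
  unfold rlift rι
  simp

instance rmap_mono {M N : A} (f : M ⟶ N) [Mono f] : Mono (rmap T η f) := by
  haveI : Mono (rmap T η f ≫ rι T η N) := by
    rw [rmap_ι]
    infer_instance
  exact mono_of_mono (rmap T η f) (rι T η N)

lemma isZero_r_of_isZero {M : A} (hM : IsZero M) : IsZero (r T η M) :=
  IsZero.of_mono (rι T η M) hM

lemma isZero_r_of_isIso {M : A} [IsIso (ηa T η M)] : IsZero (r T η M) := by
  unfold r
  exact isZero_kernel_of_mono _

/-- hypotheses on `(T, η)` relative to a class `Q` of objects ("coherent objects") -/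
structure Hyp (Q : ObjectProperty A) : Prop where
  zero : ∀ Z : A, IsZero Z → Q Z
  iso : ∀ {M N : A}, (M ≅ N) → Q M → Q N
  ker : ∀ {M N : A} (f : M ⟶ N), Q M → Q N → Q (kernel f)
  QT : ∀ M : A, Q M → Q (T.obj M)
  epi : ∀ M : A, Q M → Epi (ηa T η M)
  isoT : ∀ M : A, Q M → IsIso (ηa T η (T.obj M))
  isoSub : ∀ {N M : A} (f : N ⟶ M) [Mono f], Q N → Q M → IsIso (ηa T η M) → IsIso (ηa T η N)

variable {T η}

lemma Hyp.Qr {Q : ObjectProperty A} (h : Hyp T η Q) {M : A} (hM : Q M) : Q (r T η M) :=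
  h.ker _ hM (h.QT M hM)

variable [T.PreservesZeroMorphisms] [PreservesFiniteColimits T]

/-- the key diagram lemma -/
theorem key {Q : ObjectProperty A} (h : Hyp T η Q) (S : ShortComplex A) (hS : S.ShortExact)
    (h₁ : Q S.X₁) (h₂ : Q S.X₂) (h₃ : Q S.X₃) :
    ∃ (D E : A) (_ : Q D) (_ : Q E) (_ : IsIso (ηa T η E))
      (a : D ⟶ r T η S.X₂) (b : D ⟶ S.X₁) (c : S.X₁ ⟶ E)
      (d : E ⟶ T.obj S.X₂) (w1 : a ≫ rmap T η S.g = 0) (w2 : b ≫ c = 0)
      (w3 : d ≫ T.map S.g = 0),
      (ShortComplex.mk a (rmap T η S.g) w1).ShortExact ∧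
      (ShortComplex.mk b c w2).ShortExact ∧
      (ShortComplex.mk d (T.map S.g) w3).ShortExact := by
  haveI := hS.mono_f
  haveI := hS.epi_g
  haveI : Epi (T.map S.g) := inferInstance
  let E : A := kernel (T.map S.g)
  let d : E ⟶ T.obj S.X₂ := kernel.ι (T.map S.g)
  have hc0 : (S.f ≫ ηa T η S.X₂) ≫ T.map S.g = 0 := by
    rw [Category.assoc, ← ηa_naturality T η S.g, S.zero_assoc, zero_comp]
  let c : S.X₁ ⟶ E := kernel.lift (T.map S.g) (S.f ≫ ηa T η S.X₂) hc0
  have hcd : c ≫ d = S.f ≫ ηa T η S.X₂ := kernel.lift_ι _ _ _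
  -- `c` is an epimorphism
  have hTex : (S.map T).Exact :=
    hS.exact.map_of_epi_of_preservesCokernel T hS.epi_g inferInstance
  have hc' : Epi (kernel.lift (T.map S.g) (T.map S.f) (S.map T).zero) :=
    hTex.epi_kernelLift
  have hfac : c = ηa T η S.X₁ ≫ kernel.lift (T.map S.g) (T.map S.f) (S.map T).zero := by
    have hl : kernel.lift (T.map S.g) (T.map S.f) (S.map T).zero ≫ d = T.map S.f :=
      kernel.lift_ι _ _ _
    rw [← cancel_mono d, hcd, Category.assoc, hl]
    exact ηa_naturality T η S.f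
  haveI hη₁ : Epi (ηa T η S.X₁) := h.epi _ h₁
  haveI hcepi : Epi c := by
    rw [hfac]
    exact epi_comp _ _
  let D : A := kernel c
  let b : D ⟶ S.X₁ := kernel.ι c
  have w2 : b ≫ c = 0 := kernel.condition c
  have ha0 : (b ≫ S.f) ≫ ηa T η S.X₂ = 0 := by
    rw [Category.assoc, ← hcd, ← Category.assoc, w2, zero_comp]
  let a : D ⟶ r T η S.X₂ := rlift T η (b ≫ S.f) ha0
  have haι : a ≫ rι T η S.X₂ = b ≫ S.f := rlift_ι T η _ _
  have w1 : a ≫ rmap T η S.g = 0 := by
    rw [← cancel_mono (rι T η S.X₃), Category.assoc, rmap_ι, ← Category.assoc, haι,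
      Category.assoc, S.zero, comp_zero, zero_comp]
  have w3 : d ≫ T.map S.g = 0 := kernel.condition _
  have hQE : Q E := h.ker _ (h.QT _ h₂) (h.QT _ h₃)
  have hQD : Q D := h.ker _ h₁ hQE
  haveI : IsIso (ηa T η (T.obj S.X₂)) := h.isoT _ h₂
  have hEiso : IsIso (ηa T η E) := h.isoSub d hQE (h.QT _ h₂) inferInstance
  refine ⟨D, E, hQD, hQE, hEiso, a, b, c, d, w1, w2, w3, ?_, ?_, ?_⟩
  · -- `0 → D → r M → r M'' → 0`
    haveI : Mono a := by
      haveI : Mono (a ≫ rι T η S.X₂) := by
        rw [haι]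
        infer_instance
      exact mono_of_mono a (rι T η S.X₂)
    refine ShortComplex.ShortExact.mk' ?_ inferInstance ?_
    · rw [ShortComplex.exact_iff_exact_up_to_refinements]
      intro W x hx
      have hx' : x ≫ rmap T η S.g = 0 := hx
      have h1 : (x ≫ rι T η S.X₂) ≫ S.g = 0 := by
        rw [Category.assoc, ← rmap_ι, ← Category.assoc, hx', zero_comp]
      let m' : W ⟶ S.X₁ := hS.exact.lift (x ≫ rι T η S.X₂) h1
      have hm' : m' ≫ S.f = x ≫ rι T η S.X₂ := hS.exact.lift_f _ _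
      have hm'c : m' ≫ c = 0 := by
        rw [← cancel_mono d, Category.assoc, hcd, ← Category.assoc, hm', Category.assoc,
          rι_η, comp_zero, zero_comp]
      refine ⟨W, 𝟙 W, inferInstance, kernel.lift c m' hm'c, ?_⟩
      change 𝟙 W ≫ x = kernel.lift c m' hm'c ≫ a
      rw [Category.id_comp, ← cancel_mono (rι T η S.X₂), Category.assoc, haι, ← Category.assoc,
        kernel.lift_ι, hm']
    · -- `r g` is an epimorphism
      change Epi (rmap T η S.g)
      rw [epi_iff_surjective_up_to_refinements]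
      intro W x''
      obtain ⟨W₁, π₁, hπ₁, m, hm⟩ :=
        (epi_iff_surjective_up_to_refinements S.g).1 inferInstance (x'' ≫ rι T η S.X₃)
      have hmη : (m ≫ ηa T η S.X₂) ≫ T.map S.g = 0 := by
        rw [Category.assoc, ← ηa_naturality T η S.g, ← Category.assoc, ← hm, Category.assoc,
          Category.assoc, rι_η, comp_zero, comp_zero]
      let e : W₁ ⟶ E := kernel.lift (T.map S.g) (m ≫ ηa T η S.X₂) hmη
      have he : e ≫ d = m ≫ ηa T η S.X₂ := kernel.lift_ι _ _ _
      obtain ⟨W₂, π₂, hπ₂, m', hm'⟩ :=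
        (epi_iff_surjective_up_to_refinements c).1 hcepi e
      have hz : (π₂ ≫ m - m' ≫ S.f) ≫ ηa T η S.X₂ = 0 := by
        rw [Preadditive.sub_comp, Category.assoc, Category.assoc, ← he, ← hcd,
          ← Category.assoc, ← Category.assoc, hm', sub_self]
      haveI : Epi (π₂ ≫ π₁) := epi_comp _ _
      refine ⟨W₂, π₂ ≫ π₁, inferInstance, rlift T η _ hz, ?_⟩
      rw [← cancel_mono (rι T η S.X₃)]
      simp only [Category.assoc]
      rw [rmap_ι, rlift_ι_assoc, Preadditive.sub_comp, Category.assoc, Category.assoc, S.zero,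
        comp_zero, sub_zero, ← hm]
  · exact ShortComplex.ShortExact.mk' (ShortComplex.exact_kernel c) inferInstance hcepi
  · exact ShortComplex.ShortExact.mk' (ShortComplex.exact_kernel (T.map S.g)) inferInstance
      inferInstance

end Groth.Agent.H30.NilDev
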