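import Mathlib
import Groth.Agent.H30.NilDev.Key
import Groth.Agent.H17.K0.Basic
import Groth.Agent.H30.K0Bridge

/-!
# Nilpotent dévissage, part 2: the retraction `K₀(Q) → K₀(Q_B)`
-/

set_option autoImplicit false
set_option linter.style.haveILetI false
universe v u
open CategoryTheory Limits KZero ZeroObject

namespace Groth.Agent.H30.NilDev

open Groth.Agent.H30.K0Bridge

variable {A : Type u} [Category.{v} A] [Abelian A] (T : A ⥤ A) (η : 𝟭 A ⟶ T)

/-- `nil n M`: the `n`-th radical of `M` vanishes -/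
def nil : ℕ → A → Prop
  | 0, M => IsZero M
  | n + 1, M => nil n (r T η M)

lemma nil_of_mono : ∀ (n : ℕ) {N M : A} (f : N ⟶ M) [Mono f], nil T η n M → nil T η n N
  | 0, _, _, f, _, h => IsZero.of_mono f h
  | n + 1, _, _, f, _, h => nil_of_mono n (rmap T η f) h

lemma nil_succ : ∀ (n : ℕ) {M : A}, nil T η n M → nil T η (n + 1) M
  | 0, _, h => isZero_r_of_isZero T η h
  | n + 1, M, h => nil_succ n (M := r T η M) h

lemma nil_le {n m : ℕ} (hnm : n ≤ m) {M : A} (h : nil T η n M) : nil T η m M := by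
  induction hnm with
  | refl => exact h
  | step _ ih => exact nil_succ T η _ ih

/-- the objects of `Q` on which the unit is an isomorphism -/
def QB (Q : ObjectProperty A) : ObjectProperty A := fun M => Q M ∧ IsIso (ηa T η M)

variable {T η}

lemma isIso_ηa_of_iso {M N : A} (e : M ≅ N) (h : IsIso (ηa T η M)) : IsIso (ηa T η N) := by
  have : ηa T η N = e.inv ≫ ηa T η M ≫ T.map e.hom := by
    rw [← ηa_naturality, e.inv_hom_id_assoc]
  rw [this]
  infer_instance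

variable [T.PreservesZeroMorphisms]

lemma isIso_ηa_of_isZero {Z : A} (hZ : IsZero Z) : IsIso (ηa T η Z) :=
  ⟨⟨0, hZ.eq_of_src _ _, (T.map_isZero hZ).eq_of_src _ _⟩⟩

variable {Q : ObjectProperty A}

lemma QB_iso (h : Hyp T η Q) : (QB T η Q).IsClosedUnderIsomorphisms where
  of_iso e hM := ⟨h.iso e hM.1, isIso_ηa_of_iso e hM.2⟩

lemma QB_zero (h : Hyp T η Q) : (QB T η Q).ContainsZero where
  exists_zero := ⟨(0 : A), isZero_zero _, h.zero _ (isZero_zero _), isIso_ηa_of_isZero (isZero_zero _)⟩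

omit [T.PreservesZeroMorphisms] in
lemma QB_T (h : Hyp T η Q) {M : A} (hM : Q M) : QB T η Q (T.obj M) :=
  ⟨h.QT M hM, h.isoT M hM⟩

variable (T η Q) in
/-- the candidate class of `M` in `K₀(Q_B)`: the sum of the first `n` graded pieces -/
noncomputable def psi : ℕ → A → K0sub (QB T η Q)
  | 0, _ => 0
  | n + 1, M => clSub (QB T η Q) (T.obj M) + psi n (r T η M)

lemma psi_of_isZero (h : Hyp T η Q) : ∀ (n : ℕ) {M : A}, IsZero M → psi T η Q n M = 0
  | 0, _, _ => rfl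
  | n + 1, M, hM => by
    haveI := QB_iso h
    haveI := QB_zero h
    change clSub (QB T η Q) (T.obj M) + psi T η Q n (r T η M) = 0
    rw [clSub_isZero _ (T.map_isZero hM), psi_of_isZero h n (isZero_r_of_isZero T η hM),
      add_zero]

lemma psi_stable (h : Hyp T η Q) :
    ∀ (n m : ℕ) {M : A}, n ≤ m → nil T η n M → psi T η Q m M = psi T η Q n M
  | 0, m, _, _, hM => psi_of_isZero h m hM
  | n + 1, 0, _, hle, _ => absurd hle (by omega)
  | n + 1, m + 1, M, hle, hM => by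
    change clSub (QB T η Q) (T.obj M) + psi T η Q m (r T η M) =
      clSub (QB T η Q) (T.obj M) + psi T η Q n (r T η M)
    rw [psi_stable h n m (Nat.le_of_succ_le_succ hle) hM]

lemma psi_QB_succ (h : Hyp T η Q) {C : A} (hC : QB T η Q C) (n : ℕ) :
    psi T η Q (n + 1) C = clSub (QB T η Q) C := by
  haveI := QB_iso h
  haveI := QB_zero h
  haveI := hC.2
  change clSub (QB T η Q) (T.obj C) + psi T η Q n (r T η C) = _
  rw [psi_of_isZero h n (isZero_r_of_isIso T η), add_zero,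
    ← clSub_iso (QB T η Q) (asIso (ηa T η C)) hC]

lemma psi_QB (h : Hyp T η Q) {C : A} (hC : QB T η Q C) :
    ∀ (n : ℕ), nil T η n C → psi T η Q n C = clSub (QB T η Q) C
  | 0, hn => by
    haveI := QB_iso h
    haveI := QB_zero h
    exact (clSub_isZero _ hn).symm
  | n + 1, _ => psi_QB_succ h hC n

variable [PreservesFiniteColimits T]

lemma shortExact_kernel {M M'' : A} (g : M ⟶ M'') [Epi g] :
    (ShortComplex.mk (kernel.ι g) g (kernel.condition g)).ShortExact :=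
  ShortComplex.ShortExact.mk' (ShortComplex.exact_kernel g) inferInstance inferInstance

lemma rmap_epi (h : Hyp T η Q) {M M'' : A} (g : M ⟶ M'') [Epi g] (hM : Q M) (hM'' : Q M'') :
    Epi (rmap T η g) := by
  obtain ⟨D, E, -, -, -, a, b, c, d, w1, w2, w3, s1, -, -⟩ :=
    key h _ (shortExact_kernel g) (h.ker g hM hM'') hM hM''
  exact s1.epi_g

lemma nil_of_epi (h : Hyp T η Q) : ∀ (n : ℕ) {M M'' : A} (g : M ⟶ M'') [Epi g], Q M → Q M'' →
    nil T η n M → nil T η n M''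
  | 0, _, _, g, _, _, _, hn => IsZero.of_epi g hn
  | n + 1, _, _, g, _, hM, hM'', hn => by
    haveI := rmap_epi h g hM hM''
    exact nil_of_epi h n (rmap T η g) (h.Qr hM) (h.Qr hM'') hn

/-- nilpotency is stable under extensions -/
lemma nil_ext (h : Hyp T η Q) : ∀ (b a : ℕ) (S : ShortComplex A), S.ShortExact → Q S.X₁ →
    Q S.X₂ → Q S.X₃ → nil T η a S.X₁ → nil T η b S.X₃ → nil T η (a + b) S.X₂
  | 0, a, S, hS, _, _, _, ha, hb => by
    haveI := hS.mono_f
    haveI : Epi S.f := hS.exact.epi_f (hb.eq_of_tgt _ _)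
    haveI : IsIso S.f := isIso_of_mono_of_epi S.f
    exact nil_of_mono T η a (inv S.f) ha
  | b + 1, a, S, hS, h₁, h₂, h₃, ha, hb => by
    obtain ⟨D, E, hQD, -, -, x, y, c, d, w1, w2, w3, s1, s2, -⟩ := key h S hS h₁ h₂ h₃
    haveI : Mono y := s2.mono_f
    exact nil_ext h b a _ s1 hQD (h.Qr h₂) (h.Qr h₃) (nil_of_mono T η a y ha) hb

/-- one step: `0 → D → N → E → 0` with `E` in `Q_B` -/
theorem psi_step (h : Hyp T η Q) (n : ℕ)
    (IH : ∀ S : ShortComplex A, S.ShortExact → Q S.X₁ → Q S.X₂ → Q S.X₃ → nil T η n S.X₂ →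
      psi T η Q n S.X₂ = psi T η Q n S.X₁ + psi T η Q n S.X₃)
    (S : ShortComplex A) (hS : S.ShortExact) (hD : Q S.X₁) (hN : Q S.X₂)
    (hE : QB T η Q S.X₃) (hnD : nil T η n S.X₁) (hnN : nil T η n (r T η S.X₂)) :
    psi T η Q (n + 1) S.X₂ = clSub (QB T η Q) S.X₃ + psi T η Q n S.X₁ := by
  haveI := QB_iso h
  haveI := QB_zero h
  obtain ⟨D₂, E₂, hQD₂, hQE₂, hE₂iso, a, b, c, d, w1, w2, w3, s1, s2, s3⟩ :=
    key h S hS hD hN hE.1
  haveI := hE.2
  have e1 : clSub (QB T η Q) (T.obj S.X₂) =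
      clSub (QB T η Q) E₂ + clSub (QB T η Q) (T.obj S.X₃) :=
    clSub_shortExact (QB T η Q) _ s3 ⟨hQE₂, hE₂iso⟩ (QB_T h hN) (QB_T h hE.1)
  have e2 : clSub (QB T η Q) S.X₃ = clSub (QB T η Q) (T.obj S.X₃) :=
    clSub_iso (QB T η Q) (asIso (ηa T η S.X₃)) hE
  have e3 : psi T η Q n (r T η S.X₂) = psi T η Q n D₂ + psi T η Q n (r T η S.X₃) :=
    IH _ s1 hQD₂ (h.Qr hN) (h.Qr hE.1) hnN
  have e4 : psi T η Q n (r T η S.X₃) = 0 := psi_of_isZero h n (isZero_r_of_isIso T η)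
  have e5 : psi T η Q n S.X₁ = psi T η Q n D₂ + psi T η Q n E₂ := IH _ s2 hQD₂ hD hQE₂ hnD
  haveI : Epi c := s2.epi_g
  have e6 : psi T η Q n E₂ = clSub (QB T η Q) E₂ :=
    psi_QB h ⟨hQE₂, hE₂iso⟩ n (nil_of_epi h n c hD hQE₂ hnD)
  change clSub (QB T η Q) (T.obj S.X₂) + psi T η Q n (r T η S.X₂) = _
  rw [e1, e3, e4, e5, e6, e2]
  abel

/-- additivity of `psi` on short exact sequences -/
theorem psi_add (h : Hyp T η Q) : ∀ (n : ℕ) (S : ShortComplex A), S.ShortExact → Q S.X₁ →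
    Q S.X₂ → Q S.X₃ → nil T η n S.X₂ →
      psi T η Q n S.X₂ = psi T η Q n S.X₁ + psi T η Q n S.X₃
  | 0, _, _, _, _, _, _ => (add_zero _).symm
  | n + 1, S, hS, h₁, h₂, h₃, hn => by
    haveI := QB_iso h
    haveI := QB_zero h
    obtain ⟨D, E, hQD, hQE, hEiso, a, b, c, d, w1, w2, w3, s1, s2, s3⟩ := key h S hS h₁ h₂ h₃
    have hn' : nil T η n (r T η S.X₂) := hn
    have e1 : clSub (QB T η Q) (T.obj S.X₂) =
        clSub (QB T η Q) E + clSub (QB T η Q) (T.obj S.X₃) :=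
      clSub_shortExact (QB T η Q) _ s3 ⟨hQE, hEiso⟩ (QB_T h h₂) (QB_T h h₃)
    have e2 : psi T η Q n (r T η S.X₂) = psi T η Q n D + psi T η Q n (r T η S.X₃) :=
      psi_add h n _ s1 hQD (h.Qr h₂) (h.Qr h₃) hn'
    haveI : Mono a := s1.mono_f
    haveI : Mono S.f := hS.mono_f
    have e3 : psi T η Q (n + 1) S.X₁ = clSub (QB T η Q) E + psi T η Q n D :=
      psi_step h n (psi_add h n) _ s2 hQD h₁ ⟨hQE, hEiso⟩ (nil_of_mono T η n a hn')
        (nil_of_mono T η n (rmap T η S.f) hn')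
    rw [e3]
    change clSub (QB T η Q) (T.obj S.X₂) + psi T η Q n (r T η S.X₂) =
      _ + (clSub (QB T η Q) (T.obj S.X₃) + psi T η Q n (r T η S.X₃))
    rw [e1, e2]
    abel

section Retraction

variable (h : Hyp T η Q) (hnil : ∀ M : A, Q M → ∃ n, nil T η n M)

/-- the retraction `K₀(Q) → K₀(Q_B)` -/
noncomputable def Psi : K0sub Q →+ K0sub (QB T η Q) :=
  Groth.Agent.H17.K0.lift Q (fun M => psi T η Q (Classical.choose (hnil M.1 M.2)) M.1) (by
    intro S h₁ h₂ h₃ hS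
    have c₁ := Classical.choose_spec (hnil S.X₁ h₁)
    have c₂ := Classical.choose_spec (hnil S.X₂ h₂)
    have c₃ := Classical.choose_spec (hnil S.X₃ h₃)
    set n₁ := Classical.choose (hnil S.X₁ h₁)
    set n₂ := Classical.choose (hnil S.X₂ h₂)
    set n₃ := Classical.choose (hnil S.X₃ h₃)
    change psi T η Q n₂ S.X₂ = psi T η Q n₁ S.X₁ + psi T η Q n₃ S.X₃
    have l₁ : n₁ ≤ n₁ + n₂ + n₃ := by omega
    have l₂ : n₂ ≤ n₁ + n₂ + n₃ := by omega
    have l₃ : n₃ ≤ n₁ + n₂ + n₃ := by omega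
    rw [← psi_stable h _ _ l₁ c₁, ← psi_stable h _ _ l₂ c₂, ← psi_stable h _ _ l₃ c₃]
    exact psi_add h _ S hS h₁ h₂ h₃ (nil_le T η l₂ c₂))

theorem Psi_clSub {M : A} (hM : Q M) (n : ℕ) (hn : nil T η n M) :
    Psi h hnil (clSub Q M) = psi T η Q n M := by
  rw [Psi, Groth.Agent.H17.K0.lift_clSub Q _ _ hM]
  have c := Classical.choose_spec (hnil M hM)
  set m := Classical.choose (hnil M hM)
  change psi T η Q m M = psi T η Q n M
  rw [← psi_stable h _ _ (le_max_left m n) c, ← psi_stable h _ _ (le_max_right m n) hn]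

theorem Psi_clSub_QB {M : A} (hM : QB T η Q M) :
    Psi h hnil (clSub Q M) = clSub (QB T η Q) M := by
  haveI := hM.2
  rw [Psi_clSub h hnil hM.1 1 (isZero_r_of_isIso T η), psi_QB_succ h hM 0]

end Retraction

end Groth.Agent.H30.NilDev
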