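import Mathlib
import Groth.Agent.H30.NilDev.Psi
import Groth.Prelude.Def_SGA6

/-!
# Nilpotent dévissage, part 3: a fully faithful exact right adjoint with nilpotent radical
induces an injection on `K₀`
-/

set_option autoImplicit false
set_option linter.style.haveILetI false
universe v v' u u'
open CategoryTheory Limits KZero ZeroObject

namespace Groth.Agent.H30.NilDev

open Groth.Agent.H30.K0Bridge

variable {A : Type u} [Category.{v} A] [Abelian A] {B : Type u'} [Category.{v'} B] [Abelian B]
  {G : A ⥤ B} {F : B ⥤ A} (adj : G ⊣ F)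

/-- hypotheses for the adjunction layer -/
structure AdjHyp (P : ObjectProperty B) (Q : ObjectProperty A) : Prop where
  zero : ∀ Z : A, IsZero Z → Q Z
  iso : ∀ {M N : A}, (M ≅ N) → Q M → Q N
  ker : ∀ {M N : A} (f : M ⟶ N), Q M → Q N → Q (kernel f)
  coker : ∀ {M N : A} (f : M ⟶ N), Q M → Q N → Q (cokernel f)
  hF : ∀ N : B, P N → Q (F.obj N)
  hG : ∀ M : A, Q M → P (G.obj M)
  isoSub : ∀ {N M : A} (f : N ⟶ M) [Mono f], Q N → Q M → IsIso (adj.unit.app M) →
    IsIso (adj.unit.app N)

variable [F.Full] [F.Faithful]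

lemma isIso_unit_app_F (N : B) : IsIso (adj.unit.app (F.obj N)) := by
  have h : adj.unit.app (F.obj N) = inv (F.map (adj.counit.app N)) :=
    IsIso.eq_inv_of_inv_hom_id (adj.right_triangle_components N)
  rw [h]
  infer_instance

variable {adj} {P : ObjectProperty B} {Q : ObjectProperty A}

lemma epi_unit_app (H : AdjHyp adj P Q) (M : A) (hM : Q M) : Epi (adj.unit.app M) := by
  let η : M ⟶ F.obj (G.obj M) := adj.unit.app M
  have hQT : Q (F.obj (G.obj M)) := H.hF _ (H.hG _ hM)
  have hQI : Q (Abelian.image η) := H.ker _ hQT (H.coker η hM hQT)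
  let p : M ⟶ Abelian.image η := Abelian.factorThruImage η
  let j : Abelian.image η ⟶ F.obj (G.obj M) := Abelian.image.ι η
  have hpj : p ≫ j = η := Abelian.image.fac η
  haveI : IsIso (adj.unit.app (F.obj (G.obj M))) := isIso_unit_app_F adj _
  haveI hI : IsIso (adj.unit.app (Abelian.image η)) := H.isoSub j hQI hQT inferInstance
  have hnat : p ≫ adj.unit.app (Abelian.image η) = η ≫ F.map (G.map p) :=
    adj.unit.naturality p
  let e : F.obj (G.obj M) ⟶ F.obj (G.obj M) :=
    F.map (G.map p) ≫ inv (adj.unit.app (Abelian.image η)) ≫ j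
  have he : η ≫ e = η := by
    change η ≫ F.map (G.map p) ≫ _ ≫ j = η
    rw [← Category.assoc, ← hnat, Category.assoc, IsIso.hom_inv_id_assoc, hpj]
  have he1 : e = 𝟙 _ := by
    obtain ⟨e', he'⟩ := F.map_surjective e
    have h1 : adj.homEquiv M (G.obj M) e' = adj.homEquiv M (G.obj M) (𝟙 _) := by
      rw [adj.homEquiv_unit, adj.homEquiv_unit, he', F.map_id]
      exact he.trans (Category.comp_id η).symm
    rw [← he', (adj.homEquiv M (G.obj M)).injective h1, F.map_id]
  haveI : Epi j := by
    have : (F.map (G.map p) ≫ inv (adj.unit.app (Abelian.image η))) ≫ j = 𝟙 _ := by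
      rw [Category.assoc]
      exact he1
    exact epi_of_epi_fac this
  change Epi η
  rw [← hpj]
  exact epi_comp _ _

lemma preservesZeroMorphisms_T (adj : G ⊣ F) [F.Additive] :
    (G ⋙ F).PreservesZeroMorphisms := by
  haveI : G.Additive := adj.left_adjoint_additive
  infer_instance

lemma preservesFiniteColimits_T (adj : G ⊣ F) [PreservesFiniteColimits F] :
    PreservesFiniteColimits (G ⋙ F) := by
  haveI : PreservesColimitsOfSize.{0, 0} G := adj.leftAdjoint_preservesColimits
  haveI : PreservesFiniteColimits G := PreservesColimitsOfSize.preservesFiniteColimits G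
  exact comp_preservesFiniteColimits G F

lemma hyp_of_adjHyp (H : AdjHyp adj P Q) : Hyp (G ⋙ F) adj.unit Q where
  zero := H.zero
  iso := H.iso
  ker := H.ker
  QT M hM := H.hF _ (H.hG _ hM)
  epi M hM := epi_unit_app H M hM
  isoT M _ := isIso_unit_app_F adj (G.obj M)
  isoSub f _ hN hM h := H.isoSub f hN hM h

section Main

variable [F.Additive] [PreservesFiniteLimits F] [PreservesFiniteColimits F]

/-- a short exact sequence all of whose terms are fixed by the unit stays short exact under
the left adjoint -/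
lemma shortExact_map_G (adj : G ⊣ F) [G.PreservesZeroMorphisms] (S : ShortComplex A)
    (hS : S.ShortExact)
    (h₁ : IsIso (adj.unit.app S.X₁)) (h₂ : IsIso (adj.unit.app S.X₂))
    (h₃ : IsIso (adj.unit.app S.X₃)) : (S.map G).ShortExact := by
  let e₁ : S.X₁ ≅ F.obj (G.obj S.X₁) := @asIso _ _ _ _ (adj.unit.app S.X₁) h₁
  let e₂ : S.X₂ ≅ F.obj (G.obj S.X₂) := @asIso _ _ _ _ (adj.unit.app S.X₂) h₂
  let e₃ : S.X₃ ≅ F.obj (G.obj S.X₃) := @asIso _ _ _ _ (adj.unit.app S.X₃) h₃
  let e : S ≅ (S.map G).map F :=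
    ShortComplex.isoMk e₁ e₂ e₃ (adj.unit.naturality S.f).symm (adj.unit.naturality S.g).symm
  have hFS : ((S.map G).map F).ShortExact := ShortComplex.shortExact_of_iso e hS
  exact
    { exact := ((S.map G).exact_map_iff_of_faithful F).1 hFS.exact
      mono_f := F.mono_of_mono_map (show Mono (F.map (S.map G).f) from hFS.mono_f)
      epi_g := F.epi_of_epi_map (show Epi (F.map (S.map G).g) from hFS.epi_g) }

variable [P.IsClosedUnderIsomorphisms] [P.ContainsZero]

/-- `K₀(Q_B) → K₀(P)` induced by the left adjoint -/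
noncomputable def Gam (H : AdjHyp adj P Q) : K0sub (QB (G ⋙ F) adj.unit Q) →+ K0sub P :=
  Groth.Agent.H17.K0.lift _ (fun M => clSub P (G.obj M.1)) (by
    intro S h₁ h₂ h₃ hS
    haveI : G.Additive := adj.left_adjoint_additive
    exact clSub_shortExact P (S.map G) (shortExact_map_G adj S hS h₁.2 h₂.2 h₃.2)
      (H.hG _ h₁.1) (H.hG _ h₂.1) (H.hG _ h₃.1))

omit [P.IsClosedUnderIsomorphisms] [P.ContainsZero] in
theorem Gam_clSub (H : AdjHyp adj P Q) {M : A} (hM : QB (G ⋙ F) adj.unit Q M) :
    Gam H (clSub (QB (G ⋙ F) adj.unit Q) M) = clSub P (G.obj M) :=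
  Groth.Agent.H17.K0.lift_clSub _ _ _ hM

/-- **Nilpotent dévissage**: the exact fully faithful right adjoint `F` induces an injection
`K₀(P) → K₀(Q)`. -/
theorem mapSub_injective (H : AdjHyp adj P Q)
    (hnil : ∀ M : A, Q M → ∃ n, nil (G ⋙ F) adj.unit n M) :
    Function.Injective (SGA6.mapSub F P Q H.hF) := by
  haveI := preservesZeroMorphisms_T adj
  haveI := preservesFiniteColimits_T adj
  have hyp := hyp_of_adjHyp H
  have key : ∀ x, Gam H (Psi hyp hnil (SGA6.mapSub F P Q H.hF x)) = x := by
    intro x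
    induction x using Groth.Agent.H17.K0.induction_on P with
    | h0 => simp
    | hcl N hN =>
      rw [mapSub_clSub F P Q H.hF hN]
      have hQB : QB (G ⋙ F) adj.unit Q (F.obj N) := ⟨H.hF N hN, isIso_unit_app_F adj N⟩
      rw [Psi_clSub_QB hyp hnil hQB, Gam_clSub H hQB]
      exact clSub_iso P (asIso (adj.counit.app N)) (H.hG _ (H.hF _ hN))
    | hneg x hx => rw [map_neg, map_neg, map_neg, hx]
    | hadd x y hx hy => rw [map_add, map_add, map_add, hx, hy]
  exact Function.LeftInverse.injective (g := fun y => Gam H (Psi hyp hnil y)) key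

end Main

end Groth.Agent.H30.NilDev
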